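import Mathlib
import Groth.Prelude.Def_W4c1stackycurvesGalP1

/-! Galois-equivariant three-transitivity on the projective line. -/

set_option autoImplicit false
open Matrix Projectivization W4c1stackycurves

namespace ThreeTrans

universe u

variable {K : Type u} [Field K]

/-- The determinant pairing. -/
def D (v w : Fin 2 → K) : K := v 0 * w 1 - v 1 * w 0

theorem D_ne_zero {v w : Fin 2 → K} (hv : v ≠ 0) (hw : w ≠ 0) (h : mk K v hv ≠ mk K w hw) :
    D v w ≠ 0 := by
  intro h0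
  apply h
  rw [mk_eq_mk_iff']
  simp only [D, sub_eq_zero] at h0
  by_cases hw0 : w 0 = 0
  · have hw1 : w 1 ≠ 0 := fun h1 => hw (funext fun i => by fin_cases i <;> assumption)
    have hv0 : v 0 = 0 := by
      rw [hw0, mul_zero] at h0
      exact (mul_eq_zero.1 h0).resolve_right hw1
    exact ⟨v 1 / w 1, funext fun i => by fin_cases i <;> simp [hw0, hv0, hw1]⟩
  · refine ⟨v 0 / w 0, funext fun i => ?_⟩
    fin_cases i
    · simp [hw0]
    · simp only [Pi.smul_apply, smul_eq_mul, Fin.mk_one]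
      field_simp
      linear_combination h0

theorem eq_zero_of_mulVec {R : Matrix (Fin 2) (Fin 2) K} {v w : Fin 2 → K} (h : D v w ≠ 0)
    (hv : R *ᵥ v = 0) (hw : R *ᵥ w = 0) : R = 0 := by
  ext a b
  have h1 := congrFun hv a
  have h2 := congrFun hw a
  simp only [mulVec, dotProduct, Fin.sum_univ_two, Pi.zero_apply] at h1 h2
  rw [Matrix.zero_apply]
  revert b
  rw [Fin.forall_fin_two]
  refine ⟨(mul_eq_zero.1 ?_).resolve_left h, (mul_eq_zero.1 ?_).resolve_left h⟩ <;> simp only [D]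
  · linear_combination w 1 * h1 - v 1 * h2
  · linear_combination v 0 * h2 - w 0 * h1

variable (v w : Fin 3 → Fin 2 → K) (hv : ∀ i j, i ≠ j → D (v i) (v j) ≠ 0)
  (hw : ∀ i j, i ≠ j → D (w i) (w j) ≠ 0)

include hv hw in
theorem exists_matrix :
    ∃ M : Matrix (Fin 2) (Fin 2) K, M.det ≠ 0 ∧ ∀ i, ∃ c : K, c ≠ 0 ∧ M *ᵥ v i = c • w i := by
  set c₀ := D (w 2) (w 1) * D (v 0) (v 2)
  set c₁ := D (w 0) (w 2) * D (v 2) (v 1)
  let M : Matrix (Fin 2) (Fin 2) K := Matrix.of fun a b =>
    c₀ * w 0 a * (if b = 0 then v 1 1 else -v 1 0) + c₁ * w 1 a * (if b = 0 then -v 0 1 else v 0 0)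
  have key : ∀ x, M *ᵥ x = (D x (v 1) * c₀) • w 0 + (D (v 0) x * c₁) • w 1 := by
    intro x
    ext a
    simp [M, mulVec, dotProduct, Fin.sum_univ_two, D]
    ring
  have hD : ∀ x : Fin 2 → K, D x x = 0 := fun x => by simp [D]; ring
  have h0 : c₀ ≠ 0 := mul_ne_zero (hw 2 1 (by decide)) (hv 0 2 (by decide))
  have h1 : c₁ ≠ 0 := mul_ne_zero (hw 0 2 (by decide)) (hv 2 1 (by decide))
  have e0 : M *ᵥ v 0 = (D (v 0) (v 1) * c₀) • w 0 := by rw [key, hD, zero_mul, zero_smul, add_zero]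
  have e1 : M *ᵥ v 1 = (D (v 0) (v 1) * c₁) • w 1 := by rw [key, hD, zero_mul, zero_smul, zero_add]
  refine ⟨M, fun hdet => ?_, fun i => ?_⟩
  · obtain ⟨x, hx, hMx⟩ := Matrix.exists_mulVec_eq_zero_iff.2 hdet
    rw [key] at hMx
    have ha := congrFun hMx 0
    have hb := congrFun hMx 1
    simp only [Pi.add_apply, Pi.smul_apply, smul_eq_mul, Pi.zero_apply] at ha hb
    have hA : D x (v 1) * c₀ * D (w 0) (w 1) = 0 := by
      show _ * (w 0 0 * w 1 1 - w 0 1 * w 1 0) = 0; linear_combination w 1 1 * ha - w 1 0 * hb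
    have hB : D (v 0) x * c₁ * D (w 0) (w 1) = 0 := by
      show _ * (w 0 0 * w 1 1 - w 0 1 * w 1 0) = 0; linear_combination w 0 0 * hb - w 0 1 * ha
    have hA' := (mul_eq_zero.1 ((mul_eq_zero.1 hA).resolve_right (hw 0 1 (by decide)))).resolve_right h0
    have hB' := (mul_eq_zero.1 ((mul_eq_zero.1 hB).resolve_right (hw 0 1 (by decide)))).resolve_right h1
    simp only [D] at hA' hB'
    refine hx (funext fun a => (mul_eq_zero.1 ?_).resolve_left (hv 0 1 (by decide)))
    simp only [D]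
    revert a
    rw [Fin.forall_fin_two]
    constructor
    · linear_combination v 0 0 * hA' + v 1 0 * hB'
    · linear_combination v 0 1 * hA' + v 1 1 * hB'
  · fin_cases i
    · exact ⟨_, mul_ne_zero (hv 0 1 (by decide)) h0, e0⟩
    · exact ⟨_, mul_ne_zero (hv 0 1 (by decide)) h1, e1⟩
    · refine ⟨D (v 2) (v 1) * D (v 0) (v 2) * D (w 0) (w 1),
        mul_ne_zero (mul_ne_zero (hv 2 1 (by decide)) (hv 0 2 (by decide))) (hw 0 1 (by decide)), ?_⟩
      show M *ᵥ v 2 = _
      rw [key]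
      ext a
      fin_cases a <;> simp [c₀, c₁, D] <;> ring

include hv hw in
theorem unique_matrix (M N : Matrix (Fin 2) (Fin 2) K) (hMd : M.det ≠ 0)
    (hM : ∀ i, ∃ c : K, c ≠ 0 ∧ M *ᵥ v i = c • w i) (hN : ∀ i, ∃ c : K, N *ᵥ v i = c • w i) :
    ∃ t : K, N = t • M := by
  have hT : ∀ i, ∃ t : K, (M.adjugate * N) *ᵥ v i = t • v i := fun i => by
    obtain ⟨c, hc, hcM⟩ := hM i
    obtain ⟨d, hd⟩ := hN i
    have hw' : w i = c⁻¹ • M *ᵥ v i := by rw [hcM, smul_smul, inv_mul_cancel₀ hc, one_smul]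
    refine ⟨d * c⁻¹ * M.det, ?_⟩
    rw [← Matrix.mulVec_mulVec, hd, hw', Matrix.mulVec_smul, Matrix.mulVec_smul, Matrix.mulVec_mulVec,
      Matrix.adjugate_mul, Matrix.smul_mulVec, Matrix.one_mulVec, smul_smul, smul_smul]
  choose t ht using hT
  have hrel : D (v 0) (v 1) • v 2 = D (v 2) (v 1) • v 0 + D (v 0) (v 2) • v 1 := by
    ext a; fin_cases a <;> simp [D] <;> ring
  have h2 := congrArg ((M.adjugate * N) *ᵥ ·) hrel
  simp only [Matrix.mulVec_add, Matrix.mulVec_smul, ht] at h2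
  have key : (D (v 2) (v 1) * (t 2 - t 0)) • v 0 + (D (v 0) (v 2) * (t 2 - t 1)) • v 1 = (0 : Fin 2 → K) := by
    have e : (t 2) • (D (v 0) (v 1) • v 2) = (t 2) • (D (v 2) (v 1) • v 0 + D (v 0) (v 2) • v 1) := by rw [hrel]
    rw [smul_comm, h2] at e
    ext a
    have := congrFun e a
    simp only [Pi.add_apply, Pi.smul_apply, smul_eq_mul, Pi.zero_apply] at this ⊢
    linear_combination -this
  have ha := congrFun key 0
  have hb := congrFun key 1
  simp only [Pi.add_apply, Pi.smul_apply, smul_eq_mul, Pi.zero_apply] at ha hb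
  have hA : (D (v 2) (v 1) * D (v 0) (v 1)) * (t 2 - t 0) = 0 := by
    show (_ * (v 0 0 * v 1 1 - v 0 1 * v 1 0)) * _ = 0; linear_combination v 1 1 * ha - v 1 0 * hb
  have hB : (D (v 0) (v 2) * D (v 0) (v 1)) * (t 2 - t 1) = 0 := by
    show (_ * (v 0 0 * v 1 1 - v 0 1 * v 1 0)) * _ = 0; linear_combination v 0 0 * hb - v 0 1 * ha
  have h20 := sub_eq_zero.1 ((mul_eq_zero.1 hA).resolve_left (mul_ne_zero (hv 2 1 (by decide)) (hv 0 1 (by decide))))
  have h21 := sub_eq_zero.1 ((mul_eq_zero.1 hB).resolve_left (mul_ne_zero (hv 0 2 (by decide)) (hv 0 1 (by decide))))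
  have hR : M.adjugate * N - t 2 • (1 : Matrix (Fin 2) (Fin 2) K) = 0 :=
    eq_zero_of_mulVec (hv 0 1 (by decide))
      (by rw [Matrix.sub_mulVec, ht, Matrix.smul_mulVec, Matrix.one_mulVec, h20, sub_self])
      (by rw [Matrix.sub_mulVec, ht, Matrix.smul_mulVec, Matrix.one_mulVec, h21, sub_self])
  refine ⟨t 2 / M.det, ?_⟩
  have h3 := congrArg (M * ·) (sub_eq_zero.1 hR)
  rw [← Matrix.mul_assoc, Matrix.mul_adjugate, Matrix.smul_mul, Matrix.one_mul, Matrix.mul_smul,
    Matrix.mul_one] at h3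
  rw [div_eq_inv_mul, mul_smul, ← h3, smul_smul, inv_mul_cancel₀ hMd, one_smul]

end ThreeTrans

namespace ThreeTrans

universe u'

variable {k K : Type u'} [Field k] [Field K] [Algebra k K]

theorem galP_mk (σ : K ≃ₐ[k] K) {v : Fin 2 → K} (hv : v ≠ 0) :
    galP σ (Projectivization.mk K v hv) = Projectivization.mk K (fun i => σ (v i))
      (fun h => hv (funext fun i => σ.injective (by rw [congrFun h i]; exact (map_zero σ).symm))) := rfl

theorem galP_injective (σ : K ≃ₐ[k] K) :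
    Function.Injective (galP σ (ι := Fin 2)) := by
  refine Function.LeftInverse.injective (g := galP σ.symm) fun x => ?_
  induction x using Projectivization.ind with
  | _ v hv =>
    rw [galP_mk, galP_mk]
    congr 1
    exact funext fun i => σ.symm_apply_apply _

theorem exists_GL [FiniteDimensional k K] [IsGalois k K]
    (x y : Fin 3 → Projectivization K (Fin 2 → K)) (hx : Function.Injective x) (hy : Function.Injective y)
    (hσ : ∀ σ : K ≃ₐ[k] K, ∀ i, ∃ j, galP σ (x i) = x j ∧ galP σ (y i) = y j) :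
    ∃ g : Matrix.GeneralLinearGroup (Fin 2) k, ∀ i,
      (Matrix.GeneralLinearGroup.toLin ((Matrix.GeneralLinearGroup.map (algebraMap k K)) g)) • x i = y i := by
  classical
  set v : Fin 3 → Fin 2 → K := fun i => (x i).rep
  set w : Fin 3 → Fin 2 → K := fun i => (y i).rep
  have hv : ∀ i j, i ≠ j → D (v i) (v j) ≠ 0 := fun i j h =>
    D_ne_zero (rep_nonzero _) (rep_nonzero _) (by rw [mk_rep, mk_rep]; exact hx.ne h)
  have hw : ∀ i j, i ≠ j → D (w i) (w j) ≠ 0 := fun i j h =>
    D_ne_zero (rep_nonzero _) (rep_nonzero _) (by rw [mk_rep, mk_rep]; exact hy.ne h)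
  obtain ⟨M₀, hM₀d, hM₀⟩ := exists_matrix v w hv hw
  obtain ⟨a, b, hab⟩ : ∃ a b, M₀ a b ≠ 0 := by
    by_contra h
    push_neg at h
    exact hM₀d (by rw [show M₀ = 0 from Matrix.ext h, Matrix.det_zero])
  set M := (M₀ a b)⁻¹ • M₀ with hMdef
  have hM1 : M a b = 1 := by simp [hMdef, inv_mul_cancel₀ hab]
  have hMd : M.det ≠ 0 := by
    rw [hMdef, Matrix.det_smul]
    exact mul_ne_zero (pow_ne_zero _ (inv_ne_zero hab)) hM₀d
  have hM : ∀ i, ∃ c : K, c ≠ 0 ∧ M *ᵥ v i = c • w i := fun i => by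
    obtain ⟨c, hc, h⟩ := hM₀ i
    exact ⟨(M₀ a b)⁻¹ * c, mul_ne_zero (inv_ne_zero hab) hc, by
      rw [hMdef, Matrix.smul_mulVec, h, smul_smul]⟩
  -- descent
  have hfix : ∀ (σ : K ≃ₐ[k] K) a' b', σ (M a' b') = M a' b' := by
    intro σ
    choose π hπx hπy using hσ σ
    have hπinj : Function.Injective π := fun i j h => hx (by
      have h' : galP σ (x i) = galP σ (x j) := by rw [hπx, hπx, h]
      exact galP_injective σ h')
    have hN : ∀ j, ∃ c : K, M.map σ *ᵥ v j = c • w j := by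
      intro j
      obtain ⟨i, rfl⟩ := (Finite.injective_iff_surjective.1 hπinj) j
      have hgx := hπx i
      have hgy := hπy i
      rw [← mk_rep (x i), galP_mk, ← mk_rep (x (π i)), mk_eq_mk_iff'] at hgx
      rw [← mk_rep (y i), galP_mk, ← mk_rep (y (π i)), mk_eq_mk_iff'] at hgy
      obtain ⟨α, hα⟩ := hgx
      obtain ⟨β, hβ⟩ := hgy
      obtain ⟨c, -, hc⟩ := hM i
      have hα0 : α ≠ 0 := fun h => by
        rw [h, zero_smul] at hα
        exact rep_nonzero (x i) (funext fun a => σ.injective (by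
          rw [← congrFun hα a]; exact (map_zero σ).symm))
      have h1 : M.map σ *ᵥ (fun a => σ (v i a)) = σ c • fun a => σ (w i a) := by
        ext a
        have := congrArg σ (congrFun hc a)
        simpa [mulVec, dotProduct, map_sum] using this
      refine ⟨α⁻¹ * σ c * β, ?_⟩
      have hv' : v (π i) = α⁻¹ • fun a => σ (v i a) := by
        simp only [v]
        rw [← hα, smul_smul, inv_mul_cancel₀ hα0, one_smul]
      rw [hv', Matrix.mulVec_smul, h1, smul_smul, mul_smul _ β]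
      simp only [w]
      rw [← hβ]
    obtain ⟨t, ht⟩ := unique_matrix v w hv hw M (M.map σ) hMd hM hN
    have ht1 : t = 1 := by
      have := congrFun (congrFun ht a) b
      rw [Matrix.map_apply, hM1, map_one, Matrix.smul_apply, hM1, smul_eq_mul, mul_one] at this
      exact this.symm
    intro a' b'
    have := congrFun (congrFun ht a') b'
    rwa [ht1, one_smul, Matrix.map_apply] at this
  have hrat : ∀ a' b', ∃ c : k, algebraMap k K c = M a' b' := fun a' b' =>
    (IsGalois.mem_range_algebraMap_iff_fixed (M a' b')).2 fun σ => hfix σ a' b'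
  choose m hm using hrat
  let M' : Matrix (Fin 2) (Fin 2) k := Matrix.of m
  have hM' : M'.map (algebraMap k K) = M := Matrix.ext hm
  have hd : IsUnit M'.det := isUnit_iff_ne_zero.2 fun h => hMd (by
    rw [← hM', ← RingHom.mapMatrix_apply, ← RingHom.map_det, h, map_zero])
  refine ⟨Matrix.nonsingInvUnit M' hd, fun i => ?_⟩
  obtain ⟨c, hc, hci⟩ := hM i
  conv_lhs => rw [← mk_rep (x i)]
  conv_rhs => rw [← mk_rep (y i)]
  rw [smul_mk, mk_eq_mk_iff']
  refine ⟨c, hci.symm.trans ?_⟩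
  show M *ᵥ v i = M'.map (algebraMap k K) *ᵥ v i
  rw [hM']

theorem exists_rational (S : Set (Projectivization K (Fin 2 → K))) (hfin : S.Finite) (h3 : S.ncard ≤ 3) :
    ∃ R : Finset (Projectivization K (Fin 2 → K)), Disjoint S (R : Set _) ∧ R.card = 3 - S.ncard ∧
      ∀ r ∈ R, ∀ σ : K ≃ₐ[k] K, galP σ r = r := by
  classical
  have h10 : (![1, 0] : Fin 2 → K) ≠ 0 := fun h => one_ne_zero (congrFun h 0)
  have h01 : (![0, 1] : Fin 2 → K) ≠ 0 := fun h => one_ne_zero (congrFun h 1)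
  have h11 : (![1, 1] : Fin 2 → K) ≠ 0 := fun h => one_ne_zero (congrFun h 0)
  let P : Finset (Projectivization K (Fin 2 → K)) :=
    {mk K _ h10, mk K _ h01, mk K _ h11}
  have hP : P.card = 3 := by
    have e1 : mk K _ h10 ≠ mk K _ h01 := fun h => by
      obtain ⟨a, ha⟩ := (mk_eq_mk_iff' K _ _ _ _).1 h; simpa using congrFun ha 0
    have e2 : mk K _ h10 ≠ mk K _ h11 := fun h => by
      obtain ⟨a, ha⟩ := (mk_eq_mk_iff' K _ _ _ _).1 h
      have := congrFun ha 1; have := congrFun ha 0; simp_all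
    have e3 : mk K _ h01 ≠ mk K _ h11 := fun h => by
      obtain ⟨a, ha⟩ := (mk_eq_mk_iff' K _ _ _ _).1 h
      have := congrFun ha 1; have := congrFun ha 0; simp_all
    simp [P, e1, e2, e3]
  have hgal : ∀ r ∈ P, ∀ σ : K ≃ₐ[k] K, galP σ r = r := by
    intro r hr σ
    simp only [P, Finset.mem_insert, Finset.mem_singleton] at hr
    rcases hr with rfl | rfl | rfl <;> rw [galP_mk] <;> congr 1 <;> ext i <;> fin_cases i <;> simp
  obtain ⟨R, hR, hRc⟩ := Finset.exists_subset_card_eq (s := P \ hfin.toFinset) (n := 3 - S.ncard) (by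
    have := Finset.le_card_sdiff hfin.toFinset P
    rw [hP, ← Set.ncard_eq_toFinset_card S hfin] at this
    omega)
  refine ⟨R, ?_, hRc, fun r hr => hgal r (Finset.mem_sdiff.1 (hR hr)).1⟩
  rw [Set.disjoint_right]
  exact fun r hr hrS => (Finset.mem_sdiff.1 (hR hr)).2 (hfin.mem_toFinset.2 hrS)

theorem exists_map [FiniteDimensional k K] [IsGalois k K]
    (S S' : Set (Projectivization K (Fin 2 → K))) (hfin : S.Finite) (h3 : S.ncard ≤ 3)
    (hS : ∀ (σ : K ≃ₐ[k] K) (x : Projectivization K (Fin 2 → K)), x ∈ S → galP σ x ∈ S)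
    (b : S ≃ S')
    (hb : ∀ (σ : K ≃ₐ[k] K) (x : S),
      (b ⟨galP σ x.1, hS σ x.1 x.2⟩ : Projectivization K (Fin 2 → K)) = galP σ (b x).1) :
    ∃ g : Matrix.GeneralLinearGroup (Fin 2) k,
      (fun x => (Matrix.GeneralLinearGroup.toLin ((Matrix.GeneralLinearGroup.map (algebraMap k K)) g)) • x) '' S = S' := by
  classical
  have : Finite S := hfin.to_subtype
  have : Finite S' := Finite.of_equiv _ b
  have hn : S'.ncard = S.ncard := by
    rw [← Nat.card_coe_set_eq, ← Nat.card_coe_set_eq]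
    exact (Nat.card_congr b).symm
  obtain ⟨R, hR, hRc, hRg⟩ := exists_rational (k := k) S hfin h3
  obtain ⟨R', hR', hR'c, hR'g⟩ := exists_rational (k := k) S' (Set.toFinite _) (hn ▸ h3)
  have er : R ≃ R' := Finset.equivOfCardEq (by rw [hRc, hR'c, hn])
  have : Fintype S := Fintype.ofFinite S
  have hcard : Fintype.card (S ⊕ R) = 3 := by
    rw [Fintype.card_sum, Fintype.card_coe, hRc, ← Nat.card_eq_fintype_card, Nat.card_coe_set_eq]
    omega
  let e : Fin 3 ≃ S ⊕ R := (finCongr hcard.symm).trans (Fintype.equivFin _).symm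
  let fx : S ⊕ R → Projectivization K (Fin 2 → K) := Sum.elim Subtype.val Subtype.val
  let fy : S ⊕ R → Projectivization K (Fin 2 → K) := Sum.elim (fun s => (b s : Projectivization K (Fin 2 → K))) (fun r => (er r : Projectivization K (Fin 2 → K)))
  have hfx : Function.Injective fx := by
    refine Function.Injective.sumElim Subtype.val_injective Subtype.val_injective fun s r h => ?_
    exact Set.disjoint_left.1 hR s.2 (h ▸ r.2)
  have hfy : Function.Injective fy := by
    refine Function.Injective.sumElim (Subtype.val_injective.comp b.injective)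
      (Subtype.val_injective.comp er.injective) fun s r h => ?_
    exact Set.disjoint_left.1 hR' (b s).2 (h ▸ (er r).2)
  obtain ⟨g, hg⟩ := exists_GL (k := k) (fx ∘ e) (fy ∘ e) (hfx.comp e.injective) (hfy.comp e.injective)
    fun σ i => by
      show ∃ j, galP σ (fx (e i)) = fx (e j) ∧ galP σ (fy (e i)) = fy (e j)
      rcases e i with s | r
      · exact ⟨e.symm (Sum.inl ⟨galP σ s.1, hS σ s.1 s.2⟩), by rw [e.apply_symm_apply]; rfl,
          by rw [e.apply_symm_apply]; exact (hb σ s).symm⟩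
      · exact ⟨e.symm (Sum.inr r), by rw [e.apply_symm_apply]; exact hRg _ r.2 σ,
          by rw [e.apply_symm_apply]; exact hR'g _ (er r).2 σ⟩
  refine ⟨g, Set.Subset.antisymm ?_ fun z hz => ?_⟩
  · rintro _ ⟨s, hs, rfl⟩
    have := hg (e.symm (Sum.inl ⟨s, hs⟩))
    simp only [Function.comp_apply, e.apply_symm_apply] at this
    simp only [fx, fy, Sum.elim_inl] at this
    dsimp only
    rw [this]
    exact (b ⟨s, hs⟩).2
  · have := hg (e.symm (Sum.inl (b.symm ⟨z, hz⟩)))
    simp only [Function.comp_apply, e.apply_symm_apply] at this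
    exact ⟨(b.symm ⟨z, hz⟩).1, (b.symm ⟨z, hz⟩).2, this.trans (by simp [fy])⟩

end ThreeTrans
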